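import Cfsg.Agent.MonsterU.CoFrameF
import Cfsg.Agent.MonsterU.CoFrame23_mg
import Cfsg.Agent.MonsterU.InvPairQ
import Cfsg.Agent.MonsterU.AmalSideOf
import Cfsg.Agent.Transfer.Extraspecial
import Cfsg.Agent.SigZeroCo2.Lin
import Cfsg.Agent.CoOneType.InvMain
import Cfsg.Agent.H861.RUtil
import Cfsg.Agent.S0383
import Cfsg.Agent.S0361
import Cfsg.Agent.FastGrp
import Cfsg.Agent.Prune
set_option linter.all false

section
prune_inst 0x7ffffffbfffcffdfffff7e7ffff5dffdfffdffffefdff9cbffe9fbff7fbf6be7efe5fbaf8fe4dafedff6e2bc30f87b53ffffeeffe86fdc7ffffd5ff45ffbffcffdf7bd0971de9cbe1fbe6fffe3f07fce7f3fffffffffffffffffffffffffffffffffffffffff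

-- part: H861/RCoA
section
prune_inst 0x3002000000180000a2002000000000000003000140000804080180000004060082000000800008c02000000001000170020000000a000000000100208003400202100804000001803003100000000000000000000000000000000000000000000
set_option linter.all false
open scoped Cfsg.Agent.FastGrp

/-!
# Elements of order 23 in `Co1`

* `mem_zpowers` : `C(X) = ⟨X⟩` for the element `X` of order 23;
* `two_fix` : the centraliser of `X` in a 2-group is trivial;
* `card_two` : an `X`-invariant 2-subgroup of `Co1` has order `1` or `2^11`;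
* `exists_conj` : every element of order 23 has a power conjugate to `X`.
-/

set_option autoImplicit false

open Cfsg

namespace Cfsg.Agent.H861.RCoA

open Cfsg.Agent.MonsterU
open Cfsg.Agent.MonsterU.Lam2 (L2 IsType cl cl_surjective qf qf_smul qf_cl_eq_zero)
open Cfsg.Agent.MonsterU.CoFrame
open Cfsg.Agent.MonsterU.CoFrameL2
open Cfsg.Agent.MonsterU.CoFrameIrr
open Cfsg.Agent.SporadicA.Co0Mono hiding smul_add smul_sub smul_neg smul_zero
open Cfsg.Agent.SporadicA.Co1Simple
open Cfsg.Agent.CoOneType.CoOneE (pr pr_surjective E mem_E mem_center_iff card_E)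
open Cfsg.Agent.SporadicStructure.Co0Base (e8 e8_coe)
open Cfsg.Spor (Co1)

theorem fixed_X {x : L2} (h : X • x = x) : x = 0 ∨ x = f0 ∨ x = cl u0 ∨ x = cl (u0 + e8 none) := by
  obtain ⟨v, rfl⟩ := cl_surjective x
  have h1 : CoFrame.Cong (x23 • v) v := (cong_iff_cl _ _).2 h
  rcases CoFrame23.fixed_cong' h1 with h2 | h2 | h2 | h2
  · left; rw [(cong_iff_cl _ _).1 h2, map_zero]
  · right; left; exact (cong_iff_cl _ _).1 h2
  · right; right; left; exact (cong_iff_cl _ _).1 h2
  · right; right; right; exact (cong_iff_cl _ _).1 h2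

theorem norm_u0 : sqNorm (u0 : GolayPt → ℤ) = 32 := by
  have h : (u0 : GolayPt → ℤ) = fun i => if i = none then -3 else 1 := funext CoFrameAct.u0_coe
  rw [h]
  decide

theorem norm_u0' : sqNorm ((u0 + e8 none : leechLattice) : GolayPt → ℤ) = 48 := by
  have h : ((u0 + e8 none : leechLattice) : GolayPt → ℤ) = fun i => if i = none then 5 else 1 := by
    funext i
    show (u0 : GolayPt → ℤ) i + ((e8 none : leechLattice) : GolayPt → ℤ) i = _
    rw [CoFrameAct.u0_coe, coe_e8]
    split_ifs <;> norm_num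
  rw [h]
  decide

theorem type_u0 : IsType 2 (cl u0) := ⟨u0, norm_u0, rfl⟩

/-- the frame class is the only class of type 4 fixed by `X` -/
theorem eq_f0 {x : L2} (hx : IsType 4 x) (h : X • x = x) : x = f0 := by
  rcases fixed_X h with h1 | h1 | h1 | h1
  · rw [h1] at hx; exact absurd hx InvPair.not_zero_four
  · exact h1
  · rw [h1] at hx; exact absurd hx (fun h => InvPair.not_two_four type_u0 h)
  · exfalso
    obtain ⟨v, hv, hvx⟩ := hx
    have h2 : qf x = 0 := by rw [← hvx, qf_cl_eq_zero, hv]; norm_num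
    rw [h1, qf_cl_eq_zero, norm_u0'] at h2
    norm_num at h2

/-- `C(X) ≤ F`. -/
theorem mem_F_of_comm {s : Co1} (h : X * s = s * X) : s ∈ F := by
  rw [mem_F_iff]
  refine eq_f0 (AmalSideOf.type_f0.smul1 s) ?_
  rw [← mul_smul, h, mul_smul, smul_f0 X_mem_F]

/-- `C(X) = ⟨X⟩`. -/
theorem mem_zpowers {s : Co1} (h : X * s = s * X) : s ∈ Subgroup.zpowers X := by
  have hF := mem_F_of_comm h
  obtain ⟨c, σ, rfl⟩ := CoFrameF.exists_of_mem_F hF
  have hX : X = pr (signCo0 0 * permCo0 shift) := CoFrameF.x_eq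
  have h1 : shift * σ = σ * shift := by
    have e1 := CoFrameF.sp_mul 0 c shift σ
    have e2 := CoFrameF.sp_mul c 0 σ shift
    rw [hX, ← map_mul, ← map_mul, e1, e2] at h
    exact (CoFrameF.pr_sp_eq h).1
  obtain ⟨n, hn⟩ := CoFrame23.centralizer_shift h1.symm
  have hXn : X ^ n = pr (permCo0 σ) := by
    rw [hn, ← CoFrame23.x23_pow_eq, map_pow]; rfl
  have h2 : pr (signCo0 c * permCo0 σ) = pr (signCo0 c) * X ^ n := by rw [hXn, map_mul]
  rw [h2] at h ⊢
  have h3 : X * pr (signCo0 c) * X⁻¹ = pr (signCo0 c) := by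
    have h4 : X * pr (signCo0 c) * X ^ n = pr (signCo0 c) * X * X ^ n := by
      rw [mul_assoc, h, mul_assoc, mul_assoc, ← pow_succ, ← pow_succ']
    have h5 := mul_right_cancel h4
    rw [h5, mul_inv_cancel_right]
  rw [fix_E (⟨c, rfl⟩ : pr (signCo0 c) ∈ E) h3, one_mul]
  exact ⟨n, by simp⟩

theorem orderOf_X : orderOf X = 23 := by
  have : Fact (Nat.Prime 23) := ⟨by norm_num⟩
  refine orderOf_eq_prime X_pow ?_
  intro h
  have h1 : pr x23 = 1 := h
  rcases CoFrameF.pr_eq_one.1 h1 with h2 | h2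
  · exact x23_ne_one h2
  · have h3 := x23_pow
    rw [h2] at h3
    have h4 : (signCo0 allOne) ^ 2 = 1 := by rw [pow_two, signCo0_mul_self]
    have h5 : (signCo0 allOne) ^ 23 = signCo0 allOne := by
      rw [show (23 : ℕ) = 2 * 11 + 1 by norm_num, pow_succ, pow_mul, h4, one_pow, one_mul]
    rw [h5] at h3
    exact Cfsg.Agent.CoOneType.CoOneE.allOne_ne h3

/-- A 2-element commuting with `X` is trivial. -/
theorem two_fix {s : Co1} {k : ℕ} (hs : s ^ 2 ^ k = 1) (h : X * s = s * X) : s = 1 := by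
  have h1 := mem_zpowers h
  have h2 : s ^ 23 = 1 := by
    obtain ⟨n, rfl⟩ := h1
    show (X ^ n) ^ 23 = 1
    rw [← zpow_natCast, ← zpow_mul, mul_comm, zpow_mul, zpow_natCast, X_pow, one_zpow]
  have h3 : orderOf s ∣ 23 := orderOf_dvd_of_pow_eq_one h2
  have h4 : orderOf s ∣ 2 ^ k := orderOf_dvd_of_pow_eq_one hs
  have h5 : Nat.Coprime 23 (2 ^ k) := Nat.Coprime.pow_right k (by norm_num)
  rw [← orderOf_eq_one_iff]
  exact Nat.eq_one_of_dvd_coprimes h5 h3 h4

/-- An `X`-invariant 2-subgroup has order `1` or `2^11`. -/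
theorem card_two (O : Subgroup Co1) (h2 : IsPGroup 2 O) (hX : ∀ s ∈ O, X * s * X⁻¹ ∈ O) :
    Nat.card O = 1 ∨ Nat.card O = 2 ^ 11 := by
  have hfin : Finite Co1 := Nat.finite_of_card_ne_zero (by rw [CoFrameF.card_Co1]; norm_num)
  obtain ⟨k, hk⟩ := IsPGroup.iff_card.1 h2
  have hd : 2 ^ k ∣ 4157776806543360000 := by
    rw [← hk, ← CoFrameF.card_Co1]; exact Subgroup.card_subgroup_dvd_card O
  have hk21 : k ≤ 21 := by
    by_contra hlt
    have h1 : 2 ^ 22 ∣ 4157776806543360000 := (pow_dvd_pow 2 (by omega)).trans hd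
    norm_num at h1
  have hit : ∀ (n : ℕ) (s : Spor.Co1), (fun t => X * t * X⁻¹)^[n] s = X ^ n * s * (X ^ n)⁻¹ := by
    intro n
    induction n with
    | zero => intro s; simp
    | succ n ih =>
      intro s
      rw [Function.iterate_succ_apply, ih, pow_succ]
      group
  have h := card_mod (O : Set Spor.Co1) (fun t => X * t * X⁻¹) hX (fun s _ => by
    rw [hit, X_pow]; simp)
  have h3 : Nat.card {s : Spor.Co1 // s ∈ (O : Set Spor.Co1) ∧ X * s * X⁻¹ = s} = 1 := by
    have key : ∀ s ∈ O, X * s * X⁻¹ = s → s = 1 := by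
      intro s hs hc
      obtain ⟨m, hm⟩ := h2 ⟨s, hs⟩
      refine two_fix (k := m) (congrArg Subtype.val hm) ?_
      rw [mul_inv_eq_iff_eq_mul] at hc
      exact hc
    rw [Nat.card_eq_one_iff_unique]
    refine ⟨⟨fun a b => Subtype.ext ?_⟩, ⟨⟨1, O.one_mem, by simp⟩⟩⟩
    rw [key a a.2.1 a.2.2, key b b.2.1 b.2.2]
  rw [h3] at h
  have h4 : Nat.card O ≡ 1 [MOD 23] := h
  rw [hk] at h4 ⊢
  unfold Nat.ModEq at h4
  interval_cases k <;> simp at h4 ⊢

/-- Every element of order 23 has a power conjugate to `X`. -/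
theorem exists_conj {s : Co1} (hs : orderOf s = 23) : ∃ (g : Co1) (n : ℕ), g * s ^ n * g⁻¹ = X := by
  have hfin : Finite Co1 := Nat.finite_of_card_ne_zero (by rw [CoFrameF.card_Co1]; norm_num)
  have hp : Fact (Nat.Prime 23) := ⟨by norm_num⟩
  have hfac : (Nat.card Co1).factorization 23 = 1 := by
    rw [CoFrameF.card_Co1, show (4157776806543360000 : ℕ) = 23 * 180772904632320000 by norm_num,
      Nat.factorization_mul (by norm_num) (by norm_num), Finsupp.add_apply,
      Nat.Prime.factorization_self (by norm_num),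
      Nat.factorization_eq_zero_of_not_dvd (by norm_num)]
  have hS : ∀ t : Co1, orderOf t = 23 →
      Nat.card (Subgroup.zpowers t) = 23 ^ (Nat.card Co1).factorization 23 := by
    intro t ht
    rw [Nat.card_zpowers, ht, hfac, pow_one]
  obtain ⟨g, hg⟩ := MulAction.exists_smul_eq Co1 (Sylow.ofCard _ (hS s hs)) (Sylow.ofCard _ (hS X orderOf_X))
  have h1 : g⁻¹ * X * g ∈ Subgroup.zpowers s := by
    have h2 : X ∈ ((g • (Sylow.ofCard _ (hS s hs)) : Sylow 23 Co1) : Subgroup Co1) := by
      rw [hg]; exact Subgroup.mem_zpowers X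
    rw [Sylow.coe_subgroup_smul, Subgroup.mem_pointwise_smul_iff_inv_smul_mem] at h2
    have e : (MulAut.conj g)⁻¹ • X = g⁻¹ * X * g := by
      rw [← map_inv]
      show g⁻¹ * X * (g⁻¹)⁻¹ = _
      rw [inv_inv]
    rw [e] at h2
    exact h2
  obtain ⟨n, hn⟩ := Subgroup.mem_zpowers_iff.1 h1
  obtain ⟨m, hm⟩ : ∃ m : ℕ, s ^ m = s ^ n := by
    have h2 : s ^ n ∈ Submonoid.powers s := by
      rw [mem_powers_iff_mem_zpowers]
      exact ⟨n, rfl⟩
    exact h2
  refine ⟨g, m, ?_⟩
  rw [hm, hn]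
  group

end Cfsg.Agent.H861.RCoA
end

-- part: H861/RCoD
section
prune_inst 0x2000000000400000004000000000000000000000200000000000000000000000000000000000000000000000000000000000000010000000000000000000000000000000000000000000000000000000000000000
set_option linter.all false
open scoped Cfsg.Agent.FastGrp

-- part: H861/RCoB
section
/-!
# A normal 2-subgroup of order `2^11`: its preimage in `Co0` is elementary abelian
-/

set_option autoImplicit false

open Cfsg

namespace Cfsg.Agent.H861.RCoB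

open Cfsg.Agent.MonsterU
open Cfsg.Agent.MonsterU.CoFrameL2
open Cfsg.Agent.MonsterU.CoFrameIrr
open Cfsg.Agent.SporadicA.Co0Mono hiding smul_add smul_sub smul_neg smul_zero
open Cfsg.Agent.SporadicA.Co1Simple
open Cfsg.Agent.CoOneType.CoOneE (pr pr_surjective E mem_E mem_center_iff card_E)
open Cfsg.Spor (Co1)
open Cfsg.Agent.H861.RCoA
open scoped commutatorElement

/-- a subgroup `K` containing `X` with a normal 2-subgroup `O` -/
structure Hyp (K O : Subgroup Co1) : Prop where
  le : O ≤ K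
  normal : ∀ k ∈ K, ∀ s ∈ O, k * s * k⁻¹ ∈ O
  two : IsPGroup 2 O
  ne : O ≠ ⊥
  X : X ∈ K
  card : Nat.card K = Nat.card O * Nat.card M24

instance : Finite Co1 := Nat.finite_of_card_ne_zero (by rw [CoFrameF.card_Co1]; norm_num)

variable {K O : Subgroup Co1} (H : Hyp K O)

include H

theorem card_O : Nat.card O = 2 ^ 11 := by
  rcases card_two O H.two (H.normal X H.X) with h | h
  · exact absurd (Subgroup.card_eq_one.1 h) H.ne
  · exact h

theorem irr (T : Subgroup Co1) (hT : T ≤ O) (hX : ∀ s ∈ T, X * s * X⁻¹ ∈ T) : T = ⊥ ∨ T = O := by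
  have h2 : IsPGroup 2 T := H.two.to_le hT
  rcases card_two T h2 hX with h | h
  · left; exact Subgroup.card_eq_one.1 h
  · right; exact Subgroup.eq_of_le_of_card_ge hT (by rw [h, card_O H])

theorem comm : ∀ s ∈ O, ∀ t ∈ O, s * t = t * s := by
  let T : Subgroup Co1 := O ⊓ Subgroup.centralizer (O : Set Co1)
  have hmem : ∀ s, s ∈ T ↔ s ∈ O ∧ ∀ t ∈ O, t * s = s * t := fun s => by
    rw [Subgroup.mem_inf, Subgroup.mem_centralizer_iff]; rfl
  have hX : ∀ s ∈ T, X * s * X⁻¹ ∈ T := by
    intro s hs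
    rw [hmem] at hs ⊢
    refine ⟨H.normal X H.X s hs.1, fun t ht => ?_⟩
    have h1 := hs.2 (X⁻¹ * t * X) (by
      have := H.normal X⁻¹ (K.inv_mem H.X) t ht
      rwa [inv_inv] at this)
    calc t * (X * s * X⁻¹) = X * ((X⁻¹ * t * X) * s) * X⁻¹ := by group
      _ = X * (s * (X⁻¹ * t * X)) * X⁻¹ := by rw [h1]
      _ = X * s * X⁻¹ * t := by group
  rcases irr H T inf_le_left hX with h | h
  · exfalso
    have hnt : Nontrivial O := (Subgroup.nontrivial_iff_ne_bot O).2 H.ne
    have hcn := H.two.center_nontrivial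
    obtain ⟨c, hc⟩ := exists_ne (1 : Subgroup.center O)
    have h1 : ((c : O) : Co1) ∈ T := by
      rw [hmem]
      refine ⟨c.1.2, fun t ht => ?_⟩
      exact congrArg Subtype.val (Subgroup.mem_center_iff.1 c.2 ⟨t, ht⟩)
    rw [h, Subgroup.mem_bot] at h1
    exact hc (Subtype.ext (Subtype.ext h1))
  · intro s hs t ht
    rw [← h] at hs
    exact (((hmem s).1 hs).2 t ht).symm

theorem sq : ∀ s ∈ O, s * s = 1 := by
  let T : Subgroup Co1 :=
    { carrier := {s | s ∈ O ∧ s * s = 1}
      one_mem' := ⟨O.one_mem, one_mul 1⟩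
      mul_mem' := by
        rintro a b ⟨ha, ha'⟩ ⟨hb, hb'⟩
        refine ⟨O.mul_mem ha hb, ?_⟩
        have h1 := comm H b hb a ha
        calc a * b * (a * b) = a * (b * a) * b := by group
          _ = (a * a) * (b * b) := by rw [h1]; group
          _ = 1 := by rw [ha', hb', one_mul]
      inv_mem' := by
        rintro a ⟨ha, ha'⟩
        refine ⟨O.inv_mem ha, ?_⟩
        rw [← mul_inv_rev, ha', inv_one] }
  have hX : ∀ s ∈ T, X * s * X⁻¹ ∈ T := by
    rintro s ⟨hs, hs'⟩
    refine ⟨H.normal X H.X s hs, ?_⟩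
    calc X * s * X⁻¹ * (X * s * X⁻¹) = X * (s * s) * X⁻¹ := by group
      _ = 1 := by rw [hs']; group
  rcases irr H T (fun s hs => hs.1) hX with h | h
  · exfalso
    have h2 : 2 ∣ Nat.card O := by rw [card_O H]; norm_num
    obtain ⟨x, hx⟩ := exists_prime_orderOf_dvd_card' 2 h2
    have h1 : (x : Co1) ∈ T := by
      refine ⟨x.2, ?_⟩
      have := pow_orderOf_eq_one x
      rw [hx, pow_two] at this
      exact congrArg Subtype.val this
    rw [h, Subgroup.mem_bot] at h1
    have h3 : x = 1 := Subtype.ext h1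
    rw [h3, orderOf_one] at hx
    norm_num at hx
  · intro s hs
    rw [← h] at hs
    exact hs.2

/-! ### The preimage in `Co0` -/

omit H in
theorem c_sq : signCo0 allOne * signCo0 allOne = 1 := signCo0_mul_self _

omit H in
theorem c_comm (g : Co0) : g * signCo0 allOne = signCo0 allOne * g :=
  CoOneType.SignFacts.sign_allOne_comm g

omit H in
theorem pr_c : pr (signCo0 allOne) = 1 := CoFrameF.pr_eq_one.2 (Or.inr rfl)

omit H in
theorem card_comap (T : Subgroup Co1) : Nat.card (T.comap pr) = 2 * Nat.card T := by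
  have h1 := (T.comap pr).card_mul_index
  have h2 := T.card_mul_index
  rw [Subgroup.index_comap_of_surjective T pr_surjective, Cfsg.Agent.S0397.result] at h1
  rw [CoFrameF.card_Co1] at h2
  have h3 : 0 < T.index := by
    rcases Nat.eq_zero_or_pos T.index with h | h
    · rw [h] at h2; norm_num at h2
    · exact h
  have h4 : Nat.card (T.comap pr) * T.index = 2 * Nat.card T * T.index := by
    rw [h1, mul_assoc, h2]; norm_num
  exact Nat.eq_of_mul_eq_mul_right h3 h4

theorem card_hat : Nat.card (O.comap pr) = 2 ^ 12 := by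
  rw [card_comap, card_O H]; norm_num

theorem hat_conj {g t : Co0} (hg : pr g ∈ K) (ht : t ∈ O.comap pr) : g * t * g⁻¹ ∈ O.comap pr := by
  show pr (g * t * g⁻¹) ∈ O
  rw [map_mul, map_mul, map_inv]
  exact H.normal _ hg _ ht

/-- the preimage is abelian -/
theorem hat_comm : ∀ s ∈ O.comap pr, ∀ t ∈ O.comap pr, s * t = t * s := by
  let Z : Subgroup Co0 := O.comap pr ⊓ Subgroup.centralizer (O.comap pr : Set Co0)
  have hmem : ∀ s, s ∈ Z ↔ s ∈ O.comap pr ∧ ∀ t ∈ O.comap pr, t * s = s * t := fun s => by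
    rw [Subgroup.mem_inf, Subgroup.mem_centralizer_iff]; rfl
  have hZX : ∀ s ∈ Z, x23 * s * x23⁻¹ ∈ Z := by
    intro s hs
    rw [hmem] at hs ⊢
    refine ⟨hat_conj H H.X hs.1, fun t ht => ?_⟩
    have h1 := hs.2 (x23⁻¹ * t * x23) (by
      have := hat_conj H (g := x23⁻¹) (by rw [map_inv]; exact K.inv_mem H.X) ht
      rwa [inv_inv] at this)
    calc t * (x23 * s * x23⁻¹) = x23 * ((x23⁻¹ * t * x23) * s) * x23⁻¹ := by group
      _ = x23 * (s * (x23⁻¹ * t * x23)) * x23⁻¹ := by rw [h1]
      _ = x23 * s * x23⁻¹ * t := by group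
  have hTO : Z.map pr ≤ O := by
    rintro _ ⟨s, hs, rfl⟩
    exact ((hmem s).1 hs).1
  have hTX : ∀ s ∈ Z.map pr, X * s * X⁻¹ ∈ Z.map pr := by
    rintro _ ⟨s, hs, rfl⟩
    refine ⟨x23 * s * x23⁻¹, hZX s hs, ?_⟩
    rw [map_mul, map_mul, map_inv]; rfl
  rcases irr H (Z.map pr) hTO hTX with h | h
  · -- the extraspecial case
    exfalso
    have hker : ∀ t : Co0, pr t = 1 → t ∈ Z := by
      intro t ht
      rw [hmem]
      refine ⟨by show pr t ∈ O; rw [ht]; exact O.one_mem, fun s _ => ?_⟩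
      rcases CoFrameF.pr_eq_one.1 ht with h1 | h1
      · rw [h1]; simp
      · rw [h1]; exact c_comm s
    have hZ : ∀ t, t ∈ Z ↔ pr t = 1 := by
      intro t
      refine ⟨fun ht => ?_, hker t⟩
      have h1 : pr t ∈ Z.map pr := ⟨t, ht, rfl⟩
      rw [h, Subgroup.mem_bot] at h1
      exact h1
    have hcen : ∀ t : O.comap pr, t ∈ Subgroup.center (O.comap pr) ↔ pr (t : Co0) = 1 := by
      intro t
      rw [← hZ, hmem, Subgroup.mem_center_iff]
      constructor
      · intro h1
        exact ⟨t.2, fun s hs => congrArg Subtype.val (h1 ⟨s, hs⟩)⟩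
      · rintro ⟨-, h1⟩ s
        exact Subtype.ext (h1 s s.2)
    have hc : ∀ a b : O.comap pr, ⁅a, b⁆ ∈ Subgroup.center (O.comap pr) := by
      intro a b
      rw [hcen]
      show pr (⁅(a : Co0), (b : Co0)⁆) = 1
      rw [map_commutatorElement, commutatorElement_eq_one_iff_mul_comm]
      exact comm H _ a.2 _ b.2
    have hcard : Nat.card (Subgroup.center (O.comap pr)) = 2 := by
      have h1 : Nat.card (Subgroup.center (O.comap pr)) = Nat.card (Subgroup.center Co0) := by
        refine Nat.card_congr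
          { toFun := fun t => ⟨(t : O.comap pr), ?_⟩
            invFun := fun t => ⟨⟨t, ?_⟩, ?_⟩
            left_inv := fun t => rfl
            right_inv := fun t => rfl }
        · have := (hcen t).1 t.2
          rw [mem_center_iff]
          exact CoFrameF.pr_eq_one.1 this
        · show pr (t : Co0) ∈ O
          rw [CoFrameF.pr_eq_one.2 ((mem_center_iff _).1 t.2)]
          exact O.one_mem
        · rw [hcen]
          exact CoFrameF.pr_eq_one.2 ((mem_center_iff _).1 t.2)
      rw [h1, CoFrameF.card_center]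
    have hd : Nat.card (commutator (O.comap pr)) ∣ 2 := by
      rw [← hcard]
      apply Subgroup.card_dvd_of_le
      rw [commutator_def, Subgroup.commutator_le]
      intro a _ b _
      exact hc a b
    have : Fact (Nat.Prime 2) := ⟨Nat.prime_two⟩
    obtain ⟨n, hn⟩ := Cfsg.Agent.Transfer.Extraspecial.exists_index_center_eq (p := 2) _ rfl hc hd
    have h2 := (Subgroup.center (O.comap pr)).card_mul_index
    rw [hn, hcard, card_hat H, ← pow_succ'] at h2
    have h3 := Nat.pow_right_injective (le_refl 2) h2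
    omega
  · intro s hs t ht
    have h1 : pr s ∈ Z.map pr := by rw [h]; exact hs
    obtain ⟨z, hz, hzs⟩ := h1
    have h2 := ((hmem z).1 hz).2 t ht
    rcases CoFrameF.pr_eq.1 hzs.symm with h3 | h3
    · rw [h3]; exact h2.symm
    · rw [h3]
      calc z * signCo0 allOne * t = z * (t * signCo0 allOne) := by rw [c_comm t]; group
        _ = t * z * signCo0 allOne := by rw [← mul_assoc, ← h2]
        _ = t * (z * signCo0 allOne) := by group

/-- the preimage has exponent two -/
theorem hat_sq : ∀ s ∈ O.comap pr, s * s = 1 := by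
  let W : Subgroup Co0 :=
    { carrier := {s | s ∈ O.comap pr ∧ s * s = 1}
      one_mem' := ⟨(O.comap pr).one_mem, one_mul 1⟩
      mul_mem' := by
        rintro a b ⟨ha, ha'⟩ ⟨hb, hb'⟩
        refine ⟨(O.comap pr).mul_mem ha hb, ?_⟩
        have h1 := hat_comm H b hb a ha
        calc a * b * (a * b) = a * (b * a) * b := by group
          _ = (a * a) * (b * b) := by rw [h1]; group
          _ = 1 := by rw [ha', hb', one_mul]
      inv_mem' := by
        rintro a ⟨ha, ha'⟩
        refine ⟨(O.comap pr).inv_mem ha, ?_⟩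
        rw [← mul_inv_rev, ha', inv_one] }
  have hTX : ∀ s ∈ W.map pr, X * s * X⁻¹ ∈ W.map pr := by
    rintro _ ⟨s, ⟨hs, hs'⟩, rfl⟩
    refine ⟨x23 * s * x23⁻¹, ⟨hat_conj H H.X hs, ?_⟩, ?_⟩
    · calc x23 * s * x23⁻¹ * (x23 * s * x23⁻¹) = x23 * (s * s) * x23⁻¹ := by group
        _ = 1 := by rw [hs']; group
    · rw [map_mul, map_mul, map_inv]; rfl
  have hTO : W.map pr ≤ O := by
    rintro _ ⟨s, hs, rfl⟩
    exact hs.1
  rcases irr H (W.map pr) hTO hTX with h | h
  · exfalso
    have key : ∀ s ∈ O.comap pr, pr s ≠ 1 → s * s = signCo0 allOne := by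
      intro s hs hne
      have h1 : pr (s * s) = 1 := by rw [map_mul]; exact sq H _ hs
      rcases CoFrameF.pr_eq_one.1 h1 with h2 | h2
      · exfalso
        have h3 : pr s ∈ W.map pr := ⟨s, ⟨hs, h2⟩, rfl⟩
        rw [h, Subgroup.mem_bot] at h3
        exact hne h3
      · exact h2
    -- two distinct nontrivial elements of `O`
    have hc := card_O H
    have h2 : ∃ a b : O, a ≠ 1 ∧ b ≠ 1 ∧ a ≠ b := by
      by_contra hcon
      push Not at hcon
      have : Nat.card O ≤ 2 := by
        classical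
        have := Fintype.ofFinite O
        by_cases h1 : ∀ a : O, a = 1
        · have : Subsingleton O := ⟨fun a b => by rw [h1 a, h1 b]⟩
          rw [Nat.card_of_subsingleton (1 : O)]; norm_num
        · push Not at h1
          obtain ⟨b, hb⟩ := h1
          rw [Nat.card_eq_fintype_card, ← Finset.card_univ]
          have h3 : (Finset.univ : Finset O) ⊆ {1, b} := by
            intro a _
            by_cases ha : a = 1
            · simp [ha]
            · simp [hcon a b ha hb]
          exact (Finset.card_le_card h3).trans Finset.card_le_two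
      omega
    obtain ⟨a, b, ha, hb, hab⟩ := h2
    obtain ⟨s, hs⟩ := pr_surjective (a : Co1)
    obtain ⟨t, ht⟩ := pr_surjective (b : Co1)
    have hs1 : s ∈ O.comap pr := by show pr s ∈ O; rw [hs]; exact a.2
    have ht1 : t ∈ O.comap pr := by show pr t ∈ O; rw [ht]; exact b.2
    have e1 := key s hs1 (by rw [hs]; exact fun h => ha (Subtype.ext h))
    have e2 := key t ht1 (by rw [ht]; exact fun h => hb (Subtype.ext h))
    have e3 : (s * t) * (s * t) = 1 := by
      calc (s * t) * (s * t) = s * (t * s) * t := by group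
        _ = (s * s) * (t * t) := by rw [hat_comm H t ht1 s hs1]; group
        _ = 1 := by rw [e1, e2, c_sq]
    have h3 : pr (s * t) ∈ W.map pr := ⟨s * t, ⟨(O.comap pr).mul_mem hs1 ht1, e3⟩, rfl⟩
    rw [h, Subgroup.mem_bot, map_mul, hs, ht] at h3
    apply hab
    apply Subtype.ext
    have h4 := sq H b b.2
    calc (a : Co1) = a * (b * b) := by rw [h4, mul_one]
      _ = (a * b) * b := by group
      _ = b := by rw [h3, one_mul]
  · intro s hs
    have h1 : pr s ∈ W.map pr := by rw [h]; exact hs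
    obtain ⟨z, hz, hzs⟩ := h1
    rcases CoFrameF.pr_eq.1 hzs.symm with h3 | h3
    · rw [h3]; exact hz.2
    · rw [h3]
      calc z * signCo0 allOne * (z * signCo0 allOne) = z * (signCo0 allOne * z) * signCo0 allOne := by group
        _ = (z * z) * (signCo0 allOne * signCo0 allOne) := by rw [← c_comm z]; group
        _ = 1 := by rw [hz.2, c_sq, one_mul]

end Cfsg.Agent.H861.RCoB
end

-- part: H861/RCoC
section
/-!
# The preimage of `O` in `Co0` contains a dodecad element, by traces
-/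

set_option autoImplicit false

open Cfsg

namespace Cfsg.Agent.H861.RCoC

open Cfsg.Agent.MonsterU
open Cfsg.Agent.MonsterU.CoFrameL2
open Cfsg.Agent.MonsterU.CoFrameIrr
open Cfsg.Agent.SporadicA.Co0Mono hiding smul_add smul_sub smul_neg smul_zero
open Cfsg.Agent.SporadicA.Co1Simple
open Cfsg.Agent.CoOneType.CoOneE (pr pr_surjective E mem_E mem_center_iff card_E)
open Cfsg.Agent.CoOneType.SignFacts
open Cfsg.Agent.SporadicStructure.Co0Base (e8 e8_coe)
open Cfsg.Agent.Co2Type.Mono (tr8 tr8_conj)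
open Cfsg.Agent.SigZeroCo2.Lin (rep trace_rep Sp tr8_one)
open Cfsg.Spor (Co1)
open Cfsg.Agent.H861.RCoA
open Cfsg.Agent.H861.RCoB

theorem tr8_sign (c : golayCode) : tr8 (signCo0 c) = 8 * (24 - 2 * (wt c : ℤ)) := by
  unfold tr8
  have h1 : ∀ i : GolayPt, ((signCo0 c • e8 i : leechLattice) : GolayPt → ℤ) i =
      8 - 16 * (if i ∈ sup c then (1 : ℤ) else 0) := by
    intro i
    rw [CoFrameAct.sign_coe, e8_coe, Pi.single_eq_same]
    split_ifs <;> norm_num
  rw [Finset.sum_congr rfl fun i _ => h1 i, Finset.sum_sub_distrib, ← Finset.mul_sum,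
    Finset.sum_boole, Finset.sum_const, SporadicStructure.MinShapes.card_pt]
  have h2 : (Finset.univ.filter fun i => i ∈ sup c) = sup c := by
    ext i; simp
  rw [h2]
  show _ = 8 * (24 - 2 * ((sup c).card : ℤ))
  simp only [nsmul_eq_mul]
  push_cast
  ring

theorem eq_of_wt_zero {c : golayCode} (h : wt c = 0) : signCo0 c = 1 := by
  rw [CoOneType.CoOneE.wt_eq_zero c h, signCo0_zero]

theorem eq_of_wt_all {c : golayCode} (h : wt c = 24) : signCo0 c = signCo0 allOne := by
  have h1 := wt_add_allOne c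
  have h2 : c + allOne = 0 := CoOneType.CoOneE.wt_eq_zero _ (by omega)
  have h3 : c = allOne := by
    have := CoOneType.CoOneE.add_allOne_add_allOne c
    rw [h2, zero_add] at this
    exact this.symm
  rw [h3]

variable {K O : Subgroup Co1} (H : Hyp K O)

include H

/-- **A dodecad element in the preimage of `O`.** -/
theorem exists_dodecad : ∃ t ∈ O.comap pr, ∃ (g : Co0) (d : golayCode), wt d = 12 ∧
    g * t * g⁻¹ = signCo0 d := by
  classical
  by_contra hcon
  push Not at hcon
  have key : ∀ t ∈ O.comap pr, t ≠ 1 → t ≠ signCo0 allOne → tr8 t ^ 2 = 64 ^ 2 := by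
    intro t ht h1 hc
    obtain ⟨g, c, hg⟩ := CoOneType.InvMain.conj_sign_of_sq_one t (hat_sq H t ht)
    have ht' : tr8 t = tr8 (signCo0 c) := by rw [← hg, tr8_conj]
    have hback : t = g⁻¹ * signCo0 c * g := by rw [← hg]; group
    rw [ht', tr8_sign]
    rcases wt_cases c with h | h | h | h | h
    · exfalso; apply h1
      rw [hback, eq_of_wt_zero h]; group
    · rw [h]; norm_num
    · exact absurd hg (hcon t ht g c h)
    · rw [h]; norm_num
    · exfalso; apply hc
      rw [hback, eq_of_wt_all h, mul_assoc, ← c_comm g]; group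
  have hfin : Finite (O.comap pr) := Nat.finite_of_card_ne_zero (by rw [card_hat H]; norm_num)
  have : Fintype (O.comap pr) := Fintype.ofFinite _
  have hinv : Invertible (Nat.card (O.comap pr) : ℚ) := invertibleOfNonzero (by
    rw [card_hat H]; norm_num)
  let ρ : Representation ℚ (O.comap pr) Sp := rep.comp (O.comap pr).subtype
  have h1 := Representation.card_inv_mul_sum_char_eq_finrank (ρ.tprod ρ)
  rw [Representation.char_tensor] at h1
  have h2 : ∀ t : O.comap pr, (ρ.character * ρ.character) t = (tr8 (t : Co0) : ℚ) ^ 2 / 64 := by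
    intro t
    have e : ρ.character t = (tr8 (t : Co0) : ℚ) / 8 := trace_rep (t : Co0)
    rw [Pi.mul_apply, e]
    ring
  rw [Finset.sum_congr rfl fun t _ => h2 t, card_hat H] at h1
  -- the sum
  let one : O.comap pr := 1
  let neg : O.comap pr := ⟨signCo0 allOne, by
    show pr (signCo0 allOne) ∈ O
    rw [pr_c]; exact O.one_mem⟩
  have hne : neg ≠ one := fun h => CoOneType.CoOneE.allOne_ne (congrArg Subtype.val h)
  have h3 : ∑ t : O.comap pr, (tr8 (t : Co0) : ℚ) ^ 2 / 64 = 263168 := by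
    rw [← Finset.add_sum_erase _ _ (Finset.mem_univ one),
      ← Finset.add_sum_erase _ _ (Finset.mem_erase.2 ⟨hne, Finset.mem_univ neg⟩)]
    have h4 : ∀ t ∈ (Finset.univ.erase one).erase neg, (tr8 ((t : O.comap pr) : Co0) : ℚ) ^ 2 / 64 = 64 := by
      intro t ht
      rw [Finset.mem_erase, Finset.mem_erase] at ht
      have h5 := key t t.2 (fun h => ht.2.1 (Subtype.ext h)) (fun h => ht.1 (Subtype.ext h))
      have h6 : (tr8 (t : Co0) : ℚ) ^ 2 = 64 ^ 2 := by exact_mod_cast h5
      rw [h6]; norm_num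
    rw [Finset.sum_congr rfl h4, Finset.sum_const, Finset.card_erase_of_mem
      (Finset.mem_erase.2 ⟨hne, Finset.mem_univ neg⟩), Finset.card_erase_of_mem (Finset.mem_univ one),
      Finset.card_univ, ← Nat.card_eq_fintype_card, card_hat H]
    have e1 : tr8 ((one : O.comap pr) : Co0) = 192 := tr8_one
    have e2 : tr8 ((neg : O.comap pr) : Co0) = -192 := by
      show tr8 (signCo0 allOne) = _
      have h7 := wt_add_allOne allOne
      rw [CoOneType.CoOneE.allOne_add_self] at h7
      have h8 : wt 0 = 0 := by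
        unfold wt
        rw [CoOneType.CoOneE.sup_zero, Finset.card_empty]
      rw [tr8_sign]
      have h9 : wt allOne = 24 := by omega
      rw [h9]; norm_num
    rw [e1, e2]
    norm_num
  rw [h3] at h1
  have h4 : (263168 : ℚ) = 4096 * (Module.finrank ℚ (ρ.tprod ρ).invariants : ℚ) := by
    rw [← h1]; norm_num
  have h5 : 263168 = 4096 * Module.finrank ℚ (ρ.tprod ρ).invariants := by exact_mod_cast h4
  omega

end Cfsg.Agent.H861.RCoC
end

-- part: H861/RCoD
section
/-!
# A subgroup `2^11.M24` of `Co1` is conjugate to `F`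
-/

set_option autoImplicit false

open Cfsg

namespace Cfsg.Agent.H861.RCoD

open Cfsg.Agent.MonsterU
open Cfsg.Agent.MonsterU.CoFrameL2 (f0 f0_ne mem_F_iff mem_W1 mem_W1_of_E smul_f0)
open Cfsg.Agent.MonsterU.CoFrameIrr (X)
open Cfsg.Agent.MonsterU.CoFrameF (F toM24 toM24_eq toM24_eq_one_iff comap_F card_F exists_of_mem_F E_le_F)
open Cfsg.Agent.SporadicA.Co0Mono hiding smul_add smul_sub smul_neg smul_zero
open Cfsg.Agent.SporadicA.Co1Simple
open Cfsg.Agent.CoOneType.CoOneE (pr pr_surjective E mem_E mem_center_iff card_E sup_wordPerm sup_mem_dodecads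
  sup_inj wordOf sup_wordOf wordOf_sup)
open Cfsg.Agent.CoOneType.SignFacts
open Cfsg.Spor (Co1)
open Cfsg.Agent.H861.RCoB (card_comap c_comm)
open Cfsg.Agent.H861.RUtil
open scoped Pointwise

/-- `|C(ε_d)| · 2576 ≤ |N|` -/
theorem card_C (d : golayCode) (hd : wt d = 12) :
    Nat.card (Subgroup.centralizer ({signCo0 d} : Set Co0)) * 2576 ≤ 2 ^ 12 * 244823040 := by
  have hle : Subgroup.centralizer ({signCo0 d} : Set Co0) ≤ N := by
    intro g hg
    exact mem_N_of_conj_dodecad d d hd hd g (Subgroup.mem_centralizer_singleton_iff.1 hg)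
  have hN : Nat.card N = 2 ^ 12 * 244823040 := by
    rw [← comap_F, card_comap, card_F]; norm_num
  have h1 := card_mul_conj N (signCo0 d)
  rw [inf_eq_left.2 hle] at h1
  have h2 : 2576 ≤ Nat.card {x : Co0 // ∃ g ∈ N, g * signCo0 d * g⁻¹ = x} := by
    rw [← Cfsg.Agent.S0361.result, ← Nat.card_coe_set_eq]
    refine Nat.card_le_card_of_injective
      (fun e : dodecads => (⟨signCo0 (wordOf (e : Finset GolayPt)), ?_⟩ :
        {x : Co0 // ∃ g ∈ N, g * signCo0 d * g⁻¹ = x})) ?_
    · obtain ⟨g, hg⟩ := CoOneType.InvMain.exists_perm_dodecad (c := d) (d := wordOf (e : Finset GolayPt))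
        ((sup_mem_dodecads d).2 hd) (by
          have := sup_wordOf e.2.1
          show sup _ ∈ dodecads
          rw [this]; exact e.2)
      exact ⟨permCo0 g, perm_mem_N g, by rw [perm_mul_sign_mul_inv, hg]⟩
    · intro e e' h
      have h3 : signCo0 (wordOf (e : Finset GolayPt)) = signCo0 (wordOf (e' : Finset GolayPt)) :=
        congrArg Subtype.val h
      have h4 := CoFrameF.sign_inj h3
      apply Subtype.ext
      rw [← sup_wordOf e.2.1, ← sup_wordOf e'.2.1, h4]
  calc _ ≤ Nat.card (Subgroup.centralizer ({signCo0 d} : Set Co0)) *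
        Nat.card {x : Co0 // ∃ g ∈ N, g * signCo0 d * g⁻¹ = x} := Nat.mul_le_mul_left _ h2
    _ = _ := by rw [h1, hN]

variable {K O : Subgroup Co1}

theorem centralizer_le (hn : ∀ k ∈ K, ∀ s ∈ O, k * s * k⁻¹ ∈ O) (cO : Nat.card O = 2 ^ 11)
    (cK : Nat.card K = 2 ^ 11 * 244823040) {d : golayCode} (hd : wt d = 12) (hdO : pr (signCo0 d) ∈ O) :
    Subgroup.centralizer ({signCo0 d} : Set Co0) ≤ K.comap pr := by
  set C := Subgroup.centralizer ({signCo0 d} : Set Co0) with hC
  set D := K.comap pr with hD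
  have hcO : Nat.card (O.comap pr) = 2 ^ 12 := by rw [card_comap, cO]; norm_num
  have hfin : Finite (O.comap pr) := Nat.finite_of_card_ne_zero (by rw [hcO]; norm_num)
  have h1 := card_mul_conj D (signCo0 d)
  have h2 : Nat.card {x : Co0 // ∃ g ∈ D, g * signCo0 d * g⁻¹ = x} ≤ 2 ^ 12 := by
    rw [← hcO]
    refine Nat.card_le_card_of_injective
      (fun x : {x : Co0 // ∃ g ∈ D, g * signCo0 d * g⁻¹ = x} => (⟨(x : Co0), ?_⟩ : O.comap pr)) ?_
    · obtain ⟨g, hg, hx⟩ := x.2
      rw [← hx]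
      show pr (g * signCo0 d * g⁻¹) ∈ O
      rw [map_mul, map_mul, map_inv]
      exact hn _ hg _ hdO
    · intro x y h
      exact Subtype.ext (congrArg (fun t : O.comap pr => (t : Co0)) h)
  have h3 := card_C d hd
  have h4 := card_inf_mul D C
  have h5 : Nat.card D = 2 ^ 12 * 244823040 := by rw [hD, card_comap, cK]; norm_num
  rw [inf_comm] at h4
  rw [← hC] at h1 h3
  rw [h5] at h1
  rw [← h4] at h3
  set a := Nat.card ↥(C ⊓ D) with ha
  set b := Nat.card {x : Co0 // ∃ g ∈ D, g * signCo0 d * g⁻¹ = x} with hb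
  set r := D.relIndex C with hr
  have h6 : r ≤ 1 := by
    by_contra hlt
    have h7 : 2 ≤ r := by omega
    have ha0 : 0 < a := by
      rcases Nat.eq_zero_or_pos a with h | h
      · rw [h, zero_mul] at h1; norm_num at h1
      · exact h
    have h8 : a * 2 * 2576 ≤ a * 2 ^ 12 := by
      calc a * 2 * 2576 ≤ a * r * 2576 := Nat.mul_le_mul_right _ (Nat.mul_le_mul_left _ h7)
        _ ≤ 2 ^ 12 * 244823040 := h3
        _ = a * b := h1.symm
        _ ≤ a * 2 ^ 12 := Nat.mul_le_mul_left _ h2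
    have h9 : 2 * 2576 ≤ 2 ^ 12 := Nat.le_of_mul_le_mul_left (by rw [← mul_assoc]; exact h8) ha0
    norm_num at h9
  have h10 : r ≠ 0 := by
    intro h
    rw [hr, Subgroup.relIndex] at h
    exact Subgroup.index_ne_zero_of_finite h
  have h11 : r = 1 := by omega
  exact Subgroup.relIndex_eq_one.1 h11

theorem not_two_stab {e : Finset GolayPt} (he : e ∈ dodecads)
    (h2 : IsPGroup 2 (MulAction.stabilizer M24 e)) : False := by
  have h1 : (MulAction.stabilizer M24 e).index = 2576 := by
    rw [MulAction.index_stabilizer, ← Cfsg.Agent.S0361.result]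
    congr 1
    ext f
    rw [MulAction.mem_orbit_iff]
    constructor
    · rintro ⟨g, rfl⟩
      exact SporadicStructure.DodecadM12.smul_mem_dodecads g.2 he
    · intro hf
      exact Cfsg.Agent.S0368.result e f he hf
  have h3 := (MulAction.stabilizer M24 e).card_mul_index
  obtain ⟨n, hn⟩ := IsPGroup.iff_card.1 h2
  rw [h1, hn, Cfsg.Agent.S0364.result] at h3
  have h4 : 11 ^ 2 ∣ 2 ^ n * 2576 * 121 := ⟨2 ^ n * 2576, by ring⟩
  have h5 : 2 ^ n = 95040 := by
    apply Nat.eq_of_mul_eq_mul_right (by norm_num : 0 < 2576)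
    rw [h3]
  have h6 : 11 ∣ 2 ^ n := by rw [h5]; norm_num
  have h7 := (by norm_num : Nat.Prime 11).dvd_of_dvd_pow h6
  norm_num at h7

/-- `O = E` and `K = F` as soon as `O` contains a dodecad element of `E`. -/
theorem eq_F (hn : ∀ k ∈ K, ∀ s ∈ O, k * s * k⁻¹ ∈ O) (cO : Nat.card O = 2 ^ 11)
    (cK : Nat.card K = 2 ^ 11 * 244823040) (hcomm : ∀ s ∈ O.comap pr, ∀ t ∈ O.comap pr, s * t = t * s)
    {d : golayCode} (hd : wt d = 12) (hdO : pr (signCo0 d) ∈ O) : O = E ∧ K = F := by
  have hC := centralizer_le hn cO cK hd hdO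
  have hO2 : IsPGroup 2 O := IsPGroup.of_card cO
  have hrep : ∀ s ∈ O, ∃ (c : golayCode) (σ : M24), s = pr (signCo0 c * permCo0 σ) ∧ σ • sup d = sup d := by
    intro s hs
    obtain ⟨g, rfl⟩ := pr_surjective s
    have h1 : g * signCo0 d = signCo0 d * g := hcomm g hs _ hdO
    have h2 : g ∈ N := mem_N_of_conj_dodecad d d hd hd g h1
    obtain ⟨c, σ, rfl⟩ := exists_sign_perm h2
    refine ⟨c, σ, rfl, ?_⟩
    rw [← sup_wordPerm]
    congr 1
    have h3 := perm_mul_sign_mul_inv σ d
    have h4 : signCo0 c * permCo0 σ * signCo0 d * (signCo0 c * permCo0 σ)⁻¹ = signCo0 d := by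
      rw [h1, mul_inv_cancel_right]
    have h5 : signCo0 c * permCo0 σ * signCo0 d * (signCo0 c * permCo0 σ)⁻¹ =
        signCo0 c * (permCo0 σ * signCo0 d * (permCo0 σ)⁻¹) * (signCo0 c)⁻¹ := by group
    rw [h5, h3, ← signCo0_add] at h4
    have h6 : signCo0 (c + wordPerm σ d) = signCo0 (d + c) := by
      rw [mul_inv_eq_iff_eq_mul, ← signCo0_add] at h4
      exact h4
    have h7 := CoFrameF.sign_inj h6
    rw [add_comm] at h7
    exact add_right_cancel h7
  have hOF : O ≤ F := by
    intro s hs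
    obtain ⟨c, σ, rfl, -⟩ := hrep s hs
    exact CoFrameF.sp_mem_F c σ
  -- the image in `M24`
  have hsd : sup d ∈ dodecads := (sup_mem_dodecads d).2 hd
  let S := MulAction.stabilizer M24 (sup d)
  let T : Subgroup M24 := (O.subgroupOf F).map toM24
  have hTp : IsPGroup 2 T := (hO2.comap_subtype (K := F)).map toM24
  have hTS : T ≤ S := by
    rintro _ ⟨s, hs, rfl⟩
    obtain ⟨c, σ, h1, h2⟩ := hrep s hs
    rw [toM24_eq h1]
    exact h2
  have hTn : (T.subgroupOf S).Normal := by
    constructor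
    rintro ⟨x, hxS⟩ hx ⟨τ, hτ⟩
    obtain ⟨s, hs, hsx⟩ := hx
    have hsx' : toM24 s = x := hsx
    have h1 : pr (permCo0 τ) ∈ K := by
      apply hC
      rw [Subgroup.mem_centralizer_singleton_iff]
      have h2 := perm_mul_sign_mul_inv τ d
      have h3 : wordPerm τ d = d := sup_inj (by rw [sup_wordPerm]; exact hτ)
      rw [h3, mul_inv_eq_iff_eq_mul] at h2
      exact h2
    obtain ⟨c, σ, hcs⟩ := exists_of_mem_F s.2
    have hF : pr (permCo0 τ) ∈ F := by
      have := CoFrameF.sp_mem_F 0 τ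
      rwa [signCo0_zero, one_mul] at this
    have hF' : pr (permCo0 τ) = pr (signCo0 0 * permCo0 τ) := by rw [signCo0_zero, one_mul]
    refine ⟨⟨pr (permCo0 τ), hF⟩ * s * ⟨pr (permCo0 τ), hF⟩⁻¹, ?_, ?_⟩
    · exact hn _ h1 _ hs
    · rw [map_mul, map_mul, map_inv, toM24_eq (x := ⟨pr (permCo0 τ), hF⟩) hF', hsx']
      rfl
  have hT : T = ⊥ := by
    have hsimp := Cfsg.Agent.S0383.result (sup d) hsd
    rcases hsimp.eq_bot_or_eq_top_of_normal (T.subgroupOf S) hTn with h | h
    · rw [Subgroup.subgroupOf_eq_bot, disjoint_iff, inf_eq_left.2 hTS] at h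
      exact h
    · exfalso
      rw [Subgroup.subgroupOf_eq_top] at h
      exact not_two_stab hsd (hTp.to_le h)
  have hOE : O ≤ E := by
    intro s hs
    have h1 : toM24 ⟨s, hOF hs⟩ ∈ T := ⟨⟨s, hOF hs⟩, hs, rfl⟩
    rw [hT, Subgroup.mem_bot] at h1
    exact (toM24_eq_one_iff _).1 h1
  have hOE' : O = E := by
    have hfin : Finite E := Nat.finite_of_card_ne_zero (by rw [card_E]; norm_num)
    exact Subgroup.eq_of_le_of_card_ge hOE (by rw [card_E, cO]; norm_num)
  refine ⟨hOE', ?_⟩
  have hKF : K ≤ F := by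
    intro k hk
    have h1 : k • f0 ∈ CoFrameL2.W1 := by
      apply mem_W1_of_E
      intro s hs
      have h2 := hn k⁻¹ (K.inv_mem hk) s (by rw [hOE']; exact hs)
      rw [hOE', inv_inv] at h2
      have h3 := smul_f0 (E_le_F h2)
      calc s • k • f0 = k • ((k⁻¹ * s * k) • f0) := by rw [smul_smul, smul_smul]; congr 1; group
        _ = k • f0 := by rw [h3]
    rcases (mem_W1 _).1 h1 with h2 | h2
    · exfalso
      have : k⁻¹ • k • f0 = 0 := by rw [h2, smul_zero]
      rw [inv_smul_smul] at this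
      exact f0_ne this
    · exact (mem_F_iff k).2 h2
  have hfin : Finite F := Nat.finite_of_card_ne_zero (by rw [card_F]; norm_num)
  exact Subgroup.eq_of_le_of_card_ge hKF (by rw [card_F, cK]; norm_num)

/-- **Theorem A.** -/
theorem eq_F_of_hyp (H : RCoB.Hyp K O) : O = E ∧ K = F := by
  obtain ⟨t, ht, g, d, hd, hg⟩ := RCoC.exists_dodecad H
  have cO := RCoB.card_O H
  have cK : Nat.card K = 2 ^ 11 * 244823040 := by rw [H.card, cO, Cfsg.Agent.S0364.result]
  let φ : Co1 ≃* Co1 := MulAut.conj (pr g)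
  have hφ : ∀ x, φ x = pr g * x * (pr g)⁻¹ := fun x => rfl
  have hmem : ∀ (S : Subgroup Co1) (x : Co1), x ∈ S.map φ.toMonoidHom ↔ (pr g)⁻¹ * x * pr g ∈ S := by
    intro S x
    constructor
    · rintro ⟨y, hy, rfl⟩
      have e : (pr g)⁻¹ * (pr g * y * (pr g)⁻¹) * pr g = y := by group
      show (pr g)⁻¹ * (pr g * y * (pr g)⁻¹) * pr g ∈ S
      rw [e]; exact hy
    · intro h
      refine ⟨_, h, ?_⟩
      show pr g * ((pr g)⁻¹ * x * pr g) * (pr g)⁻¹ = x
      group
  have hcard : ∀ S : Subgroup Co1, Nat.card (S.map φ.toMonoidHom) = Nat.card S := fun S =>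
    Subgroup.card_map_of_injective φ.injective
  obtain ⟨h1, h2⟩ := eq_F (K := K.map φ.toMonoidHom) (O := O.map φ.toMonoidHom)
    (by
      intro k hk s hs
      rw [hmem] at hk hs ⊢
      have := H.normal _ hk _ hs
      have e : (pr g)⁻¹ * (k * s * k⁻¹) * pr g =
        (pr g)⁻¹ * k * pr g * ((pr g)⁻¹ * s * pr g) * ((pr g)⁻¹ * k * pr g)⁻¹ := by group
      rw [e]; exact this)
    (by rw [hcard, cO]) (by rw [hcard, cK])
    (by
      intro a ha b hb
      have ha' : g⁻¹ * a * g ∈ O.comap pr := by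
        show pr (g⁻¹ * a * g) ∈ O
        rw [map_mul, map_mul, map_inv]; exact (hmem O _).1 ha
      have hb' : g⁻¹ * b * g ∈ O.comap pr := by
        show pr (g⁻¹ * b * g) ∈ O
        rw [map_mul, map_mul, map_inv]; exact (hmem O _).1 hb
      have h3 := RCoB.hat_comm H _ ha' _ hb'
      calc a * b = g * ((g⁻¹ * a * g) * (g⁻¹ * b * g)) * g⁻¹ := by group
        _ = g * ((g⁻¹ * b * g) * (g⁻¹ * a * g)) * g⁻¹ := by rw [h3]
        _ = b * a := by group)
    hd
    (by
      rw [hmem, ← hg, map_mul, map_mul, map_inv]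
      have e : (pr g)⁻¹ * (pr g * pr t * (pr g)⁻¹) * pr g = pr t := by group
      rw [e]; exact ht)
  -- `g ∈ N`
  have hgN : g⁻¹ ∈ N := by
    apply mem_N_of_conj
    rw [inv_inv]
    have h3 : pr (g * x23 * g⁻¹) ∈ F := by
      rw [← h2, hmem, map_mul, map_mul, map_inv]
      have e : (pr g)⁻¹ * (pr g * pr x23 * (pr g)⁻¹) * pr g = pr x23 := by group
      rw [e]; exact H.X
    exact CoFrameF.pr_mem_F.1 h3
  have hgF : pr g ∈ F := CoFrameF.pr_mem_F.2 (by
    have := N.inv_mem hgN
    rwa [inv_inv] at this)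
  constructor
  · ext x
    constructor
    · intro hx
      have h3 : pr g * x * (pr g)⁻¹ ∈ O.map φ.toMonoidHom := ⟨x, hx, rfl⟩
      rw [h1] at h3
      have h4 := CoFrameF.conj_mem_E (F.inv_mem hgF) h3
      have e : (pr g)⁻¹ * (pr g * x * (pr g)⁻¹) * (pr g)⁻¹⁻¹ = x := by group
      rwa [e] at h4
    · intro hx
      have h3 := CoFrameF.conj_mem_E hgF hx
      rw [← h1, hmem] at h3
      have e : (pr g)⁻¹ * (pr g * x * (pr g)⁻¹) * pr g = x := by group
      rwa [e] at h3
  · ext x
    constructor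
    · intro hx
      have h3 : pr g * x * (pr g)⁻¹ ∈ K.map φ.toMonoidHom := ⟨x, hx, rfl⟩
      rw [h2] at h3
      have h4 := F.mul_mem (F.mul_mem (F.inv_mem hgF) h3) hgF
      have e : (pr g)⁻¹ * (pr g * x * (pr g)⁻¹) * pr g = x := by group
      rwa [e] at h4
    · intro hx
      have h3 := F.mul_mem (F.mul_mem hgF hx) (F.inv_mem hgF)
      rw [← h2, hmem] at h3
      have e : (pr g)⁻¹ * (pr g * x * (pr g)⁻¹) * pr g = x := by group
      rwa [e] at h3

end Cfsg.Agent.H861.RCoD
end
end
end
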