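import Mathlib
import Cfsg.Prelude.Def_Transfer
import Cfsg.Agent.FastGrp
import Cfsg.Agent.Prune
set_option linter.all false
prune_inst 0x7f00000000000000000000000000000000000000000000000000000000000000000000000000000000000000000000000000000000000000000000000000000000000000000000000000000000000000003fffffffffffffffffffffffffffbeffbdffffffff
open scoped Cfsg.Agent.FastGrp

/-!
# Faithful representations of extraspecial 2-groups

`dim_bound`: a faithful linear representation over a field of characteristic not 2 of a finite group `Q` with centre of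
order 2 containing all commutators satisfies `|Q / Z(Q)| ≤ (dim V)²`.

`conj_bound`: the same for `Q ≤ H / Z(H)`, `H ≤ GL_n(F)`, with `n²` in place of `dim V`.
-/

set_option autoImplicit false

namespace Cfsg.Agent.H861.ExtraRep

open Subgroup

section

variable {Q : Type*} [Group Q] {z : Q}

/-- `z` has order two, is central, and all commutators are `1` or `z`. -/
structure Small (z : Q) : Prop where
  ne : z ≠ 1
  sq : z * z = 1
  comm : ∀ g t : Q, g * t = t * g ∨ g * t = z * (t * g)
  cen : ∀ g : Q, z * g = g * z
  only : ∀ g : Q, (∀ t, g * t = t * g) → g = 1 ∨ g = z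

variable (h : Small z)
include h

open Classical in
/-- the character `g ↦ [g, t]` with values `± 1` -/
noncomputable def Small.chi (F : Type*) [Field F] (t : Q) : Q →* F where
  toFun g := if g * t = t * g then 1 else -1
  map_one' := by simp
  map_mul' a b := by
    have hz : ∀ g : Q, g ≠ z * g := fun g hg => h.ne (mul_eq_right.1 hg.symm)
    rcases h.comm a t with ha | ha <;> rcases h.comm b t with hb | hb
    · rw [if_pos ha, if_pos hb, if_pos, one_mul]
      rw [mul_assoc, hb, ← mul_assoc, ha, mul_assoc]
    · have hb' : ¬ b * t = t * b := fun e => hz _ (e ▸ hb)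
      rw [if_pos ha, if_neg hb', if_neg, one_mul]
      intro e
      have h1 : a * b * t = z * (t * (a * b)) := by
        calc a * b * t = a * (b * t) := by group
          _ = a * (z * (t * b)) := by rw [hb]
          _ = (a * z) * (t * b) := by group
          _ = z * a * (t * b) := by rw [h.cen a]
          _ = z * (a * t) * b := by group
          _ = z * (t * (a * b)) := by rw [ha]; group
      rw [e] at h1
      exact hz _ h1
    · have ha' : ¬ a * t = t * a := fun e => hz _ (e ▸ ha)
      rw [if_neg ha', if_pos hb, if_neg, mul_one]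
      intro e
      have h1 : a * b * t = z * (t * (a * b)) := by
        calc a * b * t = a * (b * t) := by group
          _ = a * t * b := by rw [hb]; group
          _ = z * (t * (a * b)) := by rw [ha]; group
      rw [e] at h1
      exact hz _ h1
    · have ha' : ¬ a * t = t * a := fun e => hz _ (e ▸ ha)
      have hb' : ¬ b * t = t * b := fun e => hz _ (e ▸ hb)
      rw [if_neg ha', if_neg hb', if_pos, neg_mul_neg, one_mul]
      calc a * b * t = a * (b * t) := by group
          _ = (a * z) * (t * b) := by rw [hb]; group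
          _ = z * (a * t) * b := by rw [← h.cen a]; group
          _ = (z * z) * (t * (a * b)) := by rw [ha]; group
          _ = t * (a * b) := by rw [h.sq, one_mul]

theorem Small.chi_inj {F : Type*} [Field F] (h2 : (2 : F) ≠ 0) {s t : Q} (e : h.chi F s = h.chi F t) :
    s⁻¹ * t = 1 ∨ s⁻¹ * t = z := by
  apply h.only
  intro g
  have h1 := congrArg (fun f : Q →* F => f g) e
  simp only [Small.chi, MonoidHom.coe_mk, OneHom.coe_mk] at h1
  have hne : (1 : F) ≠ -1 := by
    intro h3
    apply h2
    rw [← sub_eq_zero, sub_neg_eq_add, one_add_one_eq_two] at h3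
    exact h3
  by_cases hs : g * s = s * g
  · rw [if_pos hs] at h1
    have ht : g * t = t * g := by
      by_contra hcon
      rw [if_neg hcon] at h1
      exact hne h1
    calc s⁻¹ * t * g = s⁻¹ * (g * t) := by rw [ht]; group
      _ = s⁻¹ * (g * s) * s⁻¹ * t := by group
      _ = g * (s⁻¹ * t) := by rw [hs]; group
  · rw [if_neg hs] at h1
    have ht : ¬ g * t = t * g := by
      intro hcon
      rw [if_pos hcon] at h1
      exact hne h1.symm
    have hs' := (h.comm g s).resolve_left hs
    have ht' := (h.comm g t).resolve_left ht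
    have hzi : z⁻¹ = z := inv_eq_of_mul_eq_one_right h.sq
    have e1 : t * g = z * (g * t) := by rw [ht', ← mul_assoc, h.sq, one_mul]
    calc s⁻¹ * t * g = s⁻¹ * (z * (g * t)) := by rw [mul_assoc, e1]
      _ = (s⁻¹ * z) * g * t := by group
      _ = (z * s⁻¹) * g * t := by rw [h.cen s⁻¹]
      _ = z * (s⁻¹ * (g * s)) * s⁻¹ * t := by group
      _ = z * (s⁻¹ * (z * (s * g))) * s⁻¹ * t := by rw [hs']
      _ = z * (s⁻¹ * z) * s * g * s⁻¹ * t := by group
      _ = (z * z) * (g * (s⁻¹ * t)) := by rw [← h.cen s⁻¹]; group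
      _ = g * (s⁻¹ * t) := by rw [h.sq, one_mul]

end

section

variable {Q : Type*} [Group Q] {z : Q} (h : Small z)
include h

/-- in a faithful representation in characteristic not 2 some `1 - ρ z` is nonzero -/
theorem Small.card_le [Finite Q] {F : Type*} [Field F] (h2 : (2 : F) ≠ 0) {V : Type*} [AddCommGroup V] [Module F V]
    [FiniteDimensional F V] (ρ : Q →* Module.End F V) (hρ : Function.Injective ρ) :
    Nat.card (Q ⧸ zpowers z) ≤ Module.finrank F V ^ 2 := by
  classical
  -- the operators `ρ t - ρ (t z)`
  let T : Q → Module.End F V := fun t => ρ t * (1 - ρ z)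
  have hne : (1 - ρ z : Module.End F V) ≠ 0 := by
    intro e
    rw [sub_eq_zero] at e
    apply h.ne
    apply hρ
    rw [map_one]
    exact e.symm
  have hTz : ∀ t, T (z * t) = - T t := by
    intro t
    show ρ (z * t) * (1 - ρ z) = -(ρ t * (1 - ρ z))
    have e1 : ρ (z * t) = ρ t * ρ z := by rw [h.cen, map_mul]
    have e2 : ρ z * ρ z = 1 := by rw [← map_mul, h.sq, map_one]
    rw [e1, mul_sub, mul_sub, mul_one, mul_one, mul_assoc, e2, mul_one]
    abel
  have hT0 : ∀ t, T t ≠ 0 := by
    intro t e
    apply hne
    have e1 : ρ t⁻¹ * T t = 1 - ρ z := by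
      show ρ t⁻¹ * (ρ t * (1 - ρ z)) = 1 - ρ z
      rw [← mul_assoc, ← map_mul, inv_mul_cancel, map_one, one_mul]
    rw [← e1, e, mul_zero]
  -- conjugation
  have hconj : ∀ g t, ρ g * T t * ρ g⁻¹ = (h.chi F t g) • T t := by
    intro g t
    have e1 : ρ g * T t * ρ g⁻¹ = T (g * t * g⁻¹) := by
      show ρ g * (ρ t * (1 - ρ z)) * ρ g⁻¹ = ρ (g * t * g⁻¹) * (1 - ρ z)
      have e2 : (1 - ρ z) * ρ g⁻¹ = ρ g⁻¹ * (1 - ρ z) := by
        rw [sub_mul, mul_sub, one_mul, mul_one, ← map_mul, ← map_mul, h.cen]
      calc ρ g * (ρ t * (1 - ρ z)) * ρ g⁻¹ = ρ g * ρ t * ((1 - ρ z) * ρ g⁻¹) := by noncomm_ring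
        _ = ρ g * ρ t * ρ g⁻¹ * (1 - ρ z) := by rw [e2]; noncomm_ring
        _ = _ := by rw [← map_mul, ← map_mul]
    rw [e1]
    simp only [Small.chi, MonoidHom.coe_mk, OneHom.coe_mk]
    by_cases hc : g * t = t * g
    · rw [if_pos hc, one_smul]
      congr 1
      rw [hc, mul_inv_cancel_right]
    · rw [if_neg hc, neg_one_smul, ← hTz]
      congr 1
      rw [(h.comm g t).resolve_left hc]
      group
  -- the characters of the representatives are distinct
  let r : Q ⧸ zpowers z → Q := Quotient.out
  have hinj : Function.Injective (fun i : Q ⧸ zpowers z => h.chi F (r i)) := by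
    intro i j e
    have e1 := h.chi_inj h2 e
    have e2 : (QuotientGroup.mk (r i) : Q ⧸ zpowers z) = QuotientGroup.mk (r j) := by
      rw [QuotientGroup.eq]
      rcases e1 with e1 | e1 <;> rw [e1]
      · exact one_mem _
      · exact mem_zpowers z
    rwa [show (QuotientGroup.mk (r i) : Q ⧸ zpowers z) = i from Quotient.out_eq' i,
      show (QuotientGroup.mk (r j) : Q ⧸ zpowers z) = j from Quotient.out_eq' j] at e2
  have hLI := (linearIndependent_monoidHom Q F).comp _ hinj
  have hLT : LinearIndependent F (fun i : Q ⧸ zpowers z => T (r i)) := by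
    rw [linearIndependent_iff']
    intro s c hc i hi
    -- a vector and a functional not vanishing on `T (r i)`
    obtain ⟨v, hv⟩ : ∃ v, T (r i) v ≠ 0 := by
      by_contra hcon
      push Not at hcon
      exact hT0 (r i) (LinearMap.ext hcon)
    obtain ⟨φ, hφ⟩ : ∃ φ : Module.Dual F V, φ (T (r i) v) ≠ 0 := by
      by_contra hcon
      push Not at hcon
      exact hv ((Module.forall_dual_apply_eq_zero_iff F _).1 hcon)
    have key : ∑ j ∈ s, (c j * φ (T (r j) v)) • (fun g => h.chi F (r j) g : Q → F) = 0 := by
      funext g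
      have e1 : ρ g * (∑ j ∈ s, c j • T (r j)) * ρ g⁻¹ = 0 := by rw [hc, mul_zero, zero_mul]
      rw [Finset.mul_sum, Finset.sum_mul] at e1
      have e2 : ∀ j ∈ s, ρ g * (c j • T (r j)) * ρ g⁻¹ = (c j * h.chi F (r j) g) • T (r j) := by
        intro j _
        rw [mul_smul_comm, smul_mul_assoc, hconj, smul_smul]
      rw [Finset.sum_congr rfl e2] at e1
      have e3 := congrArg (fun A : Module.End F V => φ (A v)) e1
      simp only [LinearMap.sum_apply, LinearMap.smul_apply, map_sum, map_smul, LinearMap.zero_apply,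
        map_zero, smul_eq_mul] at e3
      simp only [Finset.sum_apply, Pi.smul_apply, smul_eq_mul, Pi.zero_apply]
      rw [← e3]
      exact Finset.sum_congr rfl fun j _ => by ring
    have e4 := linearIndependent_iff'.1 hLI s (fun j => c j * φ (T (r j) v)) key i hi
    exact (mul_eq_zero.1 e4).resolve_right hφ
  have hfin : Finite (Q ⧸ zpowers z) := inferInstance
  have := Fintype.ofFinite (Q ⧸ zpowers z)
  have e5 := hLT.fintype_card_le_finrank
  rw [Module.finrank_linearMap] at e5
  rw [Nat.card_eq_fintype_card, pow_two]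
  exact e5

end

/-- From `IsExtraspecial 2`. -/
theorem exists_small {Q : Type*} [Group Q] (hQ : IsExtraspecial 2 Q) :
    ∃ z : Q, Small z ∧ Nat.card (zpowers z) = 2 := by
  obtain ⟨⟨-, -, hcomm⟩, hc⟩ := hQ
  have hfin : Finite (center Q) := Nat.finite_of_card_ne_zero (by rw [hc]; norm_num)
  have : Fact (Nat.Prime 2) := ⟨Nat.prime_two⟩
  obtain ⟨x, hx⟩ := exists_prime_orderOf_dvd_card' (G := center Q) 2 (by rw [hc])
  have hxo : orderOf (x : Q) = 2 := by rw [orderOf_coe, hx]
  have hx1 : (x : Q) ≠ 1 := by
    intro e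
    rw [e, orderOf_one] at hxo
    exact absurd hxo (by norm_num)
  have hcard : Nat.card (zpowers (x : Q)) = 2 := by rw [Nat.card_zpowers, hxo]
  have hle : zpowers (x : Q) ≤ center Q := by
    rw [zpowers_le]
    exact x.2
  have heq : zpowers (x : Q) = center Q := eq_of_le_of_card_ge hle (by rw [hc, hcard])
  have honly : ∀ g ∈ center Q, g = 1 ∨ g = x := by
    intro g hg
    rw [← heq] at hg
    obtain ⟨n, rfl⟩ := mem_zpowers_iff.1 hg
    rcases Int.even_or_odd n with ⟨k, rfl⟩ | ⟨k, rfl⟩
    · left
      rw [← two_mul, zpow_mul, zpow_ofNat, ← hxo, pow_orderOf_eq_one, one_zpow]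
    · right
      rw [zpow_add, zpow_mul, zpow_ofNat, ← hxo, pow_orderOf_eq_one, one_zpow, one_mul, zpow_one]
  refine ⟨x, ⟨hx1, ?_, ?_, ?_, ?_⟩, hcard⟩
  · rw [← sq, ← hxo, pow_orderOf_eq_one]
  · intro g t
    have h1 := commutator_mem_commutator (mem_top g) (mem_top t)
    rw [← _root_.commutator_def, hcomm] at h1
    rcases honly _ h1 with h | h
    · left
      exact commutatorElement_eq_one_iff_mul_comm.1 h
    · right
      rw [← h, commutatorElement_def]
      group
  · intro g
    exact (mem_center_iff.1 x.2 g).symm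
  · intro g hg
    exact honly g (mem_center_iff.2 fun t => (hg t).symm)

/-- **The bound.** A faithful representation of an extraspecial group of order `2 ^ (2 w + 1)` in characteristic
not two has dimension at least `2 ^ w`. -/
theorem dim_bound {Q : Type*} [Group Q] (hQ : IsExtraspecial 2 Q) {w : ℕ} (hw : Nat.card Q = 2 ^ (2 * w + 1))
    {F : Type*} [Field F] (h2 : (2 : F) ≠ 0) {V : Type*} [AddCommGroup V] [Module F V]
    [FiniteDimensional F V] (ρ : Q →* Module.End F V) (hρ : Function.Injective ρ) :
    2 ^ w ≤ Module.finrank F V := by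
  have hfin : Finite Q := Nat.finite_of_card_ne_zero (by rw [hw]; positivity)
  obtain ⟨z, hz, hc⟩ := exists_small hQ
  have h1 := hz.card_le h2 ρ hρ
  have h3 := card_eq_card_quotient_mul_card_subgroup (zpowers z)
  rw [hc, hw, pow_succ] at h3
  have h4 : Nat.card (Q ⧸ zpowers z) = 2 ^ (2 * w) := (Nat.eq_of_mul_eq_mul_right (by norm_num) h3).symm
  rw [h4, mul_comm, pow_mul] at h1
  exact (Nat.pow_le_pow_iff_left (by norm_num)).1 h1

/-- The conjugation representation of `H / Z(H)` on the span of `H`. -/
theorem exists_conj_rep {H : Type*} [Group H] {F : Type*} [Field F] {n : Type*} [Fintype n] [DecidableEq n]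
    (ι : H →* Matrix n n F) (hι : Function.Injective ι) :
    ∃ (V : Submodule F (Matrix n n F)) (ρ : (H ⧸ center H) →* Module.End F V), Function.Injective ρ := by
  let V : Submodule F (Matrix n n F) := Submodule.span F (Set.range ι)
  have hinv : ∀ g : H, ∀ M ∈ V, ι g * M * ι g⁻¹ ∈ V := by
    intro g M hM
    refine Submodule.span_induction (p := fun M _ => ι g * M * ι g⁻¹ ∈ V) ?_ ?_ ?_ ?_ hM
    · rintro _ ⟨x, rfl⟩
      rw [← map_mul, ← map_mul]
      exact Submodule.subset_span ⟨_, rfl⟩
    · rw [mul_zero, zero_mul]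
      exact V.zero_mem
    · intro x y _ _ hx hy
      rw [mul_add, add_mul]
      exact V.add_mem hx hy
    · intro a x _ hx
      rw [mul_smul_comm, smul_mul_assoc]
      exact V.smul_mem a hx
  let σ : H →* Module.End F V :=
    { toFun := fun g =>
        { toFun := fun M => ⟨ι g * (M : Matrix n n F) * ι g⁻¹, hinv g M M.2⟩
          map_add' := fun x y => Subtype.ext (by simp [mul_add, add_mul])
          map_smul' := fun a x => Subtype.ext (by simp) }
      map_one' := by
        apply LinearMap.ext
        intro M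
        apply Subtype.ext
        show ι 1 * (M : Matrix n n F) * ι 1⁻¹ = M
        rw [inv_one, map_one, one_mul, mul_one]
      map_mul' := fun a b => by
        apply LinearMap.ext
        intro M
        apply Subtype.ext
        show ι (a * b) * (M : Matrix n n F) * ι (a * b)⁻¹ = ι a * (ι b * M * ι b⁻¹) * ι a⁻¹
        rw [mul_inv_rev, map_mul, map_mul]
        simp only [mul_assoc] }
  have hσ : ∀ g : H, σ g = 1 ↔ g ∈ center H := by
    intro g
    constructor
    · intro h
      rw [mem_center_iff]
      intro x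
      have hx : ι x ∈ V := Submodule.subset_span ⟨x, rfl⟩
      have h1 := congrArg (fun f : Module.End F V => ((f ⟨ι x, hx⟩ : V) : Matrix n n F)) h
      have h2 : ι g * ι x * ι g⁻¹ = ι x := h1
      rw [← map_mul, ← map_mul] at h2
      have h3 := hι h2
      rw [mul_inv_eq_iff_eq_mul] at h3
      exact h3.symm
    · intro h
      apply LinearMap.ext
      intro M
      apply Subtype.ext
      show ι g * (M : Matrix n n F) * ι g⁻¹ = M
      have hM := M.2
      refine Submodule.span_induction (p := fun M _ => ι g * M * ι g⁻¹ = M) ?_ ?_ ?_ ?_ hM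
      · rintro _ ⟨x, rfl⟩
        rw [← map_mul, ← map_mul]
        congr 1
        rw [mul_inv_eq_iff_eq_mul]
        exact (mem_center_iff.1 h x).symm
      · rw [mul_zero, zero_mul]
      · intro x y _ _ hx hy
        rw [mul_add, add_mul, hx, hy]
      · intro a x _ hx
        rw [mul_smul_comm, smul_mul_assoc, hx]
  refine ⟨V, QuotientGroup.lift (center H) σ (fun g hg => (hσ g).2 hg), ?_⟩
  rw [injective_iff_map_eq_one]
  intro q
  obtain ⟨g, rfl⟩ := QuotientGroup.mk_surjective q
  intro hq
  exact (QuotientGroup.eq_one_iff g).2 ((hσ g).1 hq)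

end Cfsg.Agent.H861.ExtraRep

private theorem dce_e28ffddfcfcf : _root_.True := by
  try have : _root_.True := by simp only [_root_.Cfsg.Agent.H861.ExtraRep.Small.chi.congr_simp]
  try have : _root_.True := by simp only [_root_.Cfsg.Agent.H861.ExtraRep.Small.chi.eq_1]
  exact _root_.True.intro
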